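import Groth.Agent.BrSevSplit.Main
import Groth.Agent.PglPts.Aut

/-! Projective space is the Severi–Brauer scheme of a matrix algebra; its automorphism group. -/

set_option autoImplicit false
set_option maxSynthPendingDepth 3
set_option linter.style.haveILetI false

universe u

noncomputable section

open CategoryTheory AlgebraicGeometry
open scoped TensorProduct

namespace Groth.Agent.ProjAutPGL

open GrassRep GrassClosed BrSevSplit

variable (k : Type u) [Field k] (m : ℕ)

theorem finrank_mat : Module.finrank k (Matrix (Fin (m + 1)) (Fin (m + 1)) k) = (m + 1) * (m + 1) := by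
  rw [Module.finrank_matrix, Module.finrank_self, Fintype.card_fin, mul_one]

/-- The Grassmannian of lines is the Severi–Brauer scheme of the matrix algebra. -/
theorem isSBOf_grass :
    BrSev.IsSBOf k (Matrix (Fin (m + 1)) (Fin (m + 1)) k) ((m + 1) * (m + 1) - (m + 1)) (grassSch k (m + 1) 1).hom := by
  let A := Matrix (Fin (m + 1)) (Fin (m + 1)) k
  let e₀ : k ⊗[k] A ≃ₐ[k] Matrix (Fin (m + 1)) (Fin (m + 1)) k := Algebra.TensorProduct.lid k A
  let sb : ∀ (R : Type u) [CommRing R] [Algebra k R], BrSev.Pts (grassSch k (m + 1) 1).hom R ≃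
      BrSev.SBSet k A ((m + 1) * (m + 1) - (m + 1)) R := fun R _ _ =>
    ((PglPts.ptsEquiv (f := (grassSch k (m + 1) 1).hom) R).symm.trans
      (pointsEquiv k (m + 1) 1 (CommAlgCat.of k R))).trans
      (Equiv.ofBijective _ (toSB_bijective e₀ R (finrank_mat k m) (Nat.succ_pos m)))
  refine ⟨⟨sb, fun R S _ _ _ _ φ g => ?_⟩⟩
  let g₁ := (PglPts.ptsEquiv (f := (grassSch k (m + 1) 1).hom) R).symm g
  let g₂ := (PglPts.ptsEquiv (f := (grassSch k (m + 1) 1).hom) S).symm (BrSev.Pts.map _ φ g)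
  have h : pointsEquiv k (m + 1) 1 (CommAlgCat.of k S) g₂ =
      (Module.Grassmannian.functor (R := k) (M := Fin (m + 1) → k) 1).map (CommAlgCat.ofHom φ)
        (pointsEquiv k (m + 1) 1 (CommAlgCat.of k R) g₁) :=
    pointsEquiv_natural (R := k) (n := m + 1) (k := 1) (CommAlgCat.of k R) (CommAlgCat.of k S) (CommAlgCat.ofHom φ) g₁ g₂ rfl
  show (toSB e₀ S (finrank_mat k m) (pointsEquiv k (m + 1) 1 (CommAlgCat.of k S) g₂)).1.toSubmodule =
    (Module.Grassmannian.map φ (toSB e₀ R (finrank_mat k m) (pointsEquiv k (m + 1) 1 (CommAlgCat.of k R) g₁)).1).toSubmodule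
  rw [h]
  exact congrArg (fun N => N.toSubmodule) (toSB_map e₀ R (finrank_mat k m) S φ _)

/-- The automorphisms of projective space. -/
theorem exists_aut :
    ∃ φ : (Matrix (Fin (m + 1)) (Fin (m + 1)) k)ˣ →* Aut (Over.mk (CohB1.ProjSpace.toSpec m k)),
      Function.Surjective φ ∧
        φ.ker = (Units.map (algebraMap k (Matrix (Fin (m + 1)) (Fin (m + 1)) k) :
          k →* Matrix (Fin (m + 1)) (Fin (m + 1)) k)).range := by
  haveI : Nonempty (Fin (m + 1)) := ⟨0⟩
  obtain ⟨ξ, hξ, hker⟩ := PglPts.main k (Matrix (Fin (m + 1)) (Fin (m + 1)) k) (m + 1) (Nat.succ_pos m)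
    (finrank_mat k m) (grassSch k (m + 1) 1).hom (isSBOf_grass k m)
  obtain ⟨e, he⟩ := exists_grassOne_iso k m
  let E : Over.mk (grassSch k (m + 1) 1).hom ≅ Over.mk (CohB1.ProjSpace.toSpec m k) := Over.isoMk e he
  refine ⟨E.conjAut.toMonoidHom.comp ξ, E.conjAut.surjective.comp hξ, ?_⟩
  rw [← hker]
  ext a
  simp

end Groth.Agent.ProjAutPGL
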